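import Mathlib
import Cfsg.Agent.Lib.Co1.Crd
import Cfsg.Agent.Lib.Forms.Witt

/-! Involutions of `O₈⁺(2)` with totally singular commutator space. -/

set_option autoImplicit false
set_option maxRecDepth 100000
set_option synthInstance.maxSize 100000
set_option synthInstance.maxHeartbeats 400000

namespace H30.WC

open Cfsg H54 H95 H16.P8
open H96.E8 (O8 q8 c120 ch120 ch120_low ch120_size)

attribute [local irreducible] bf vc rwm H16.P8.rw

theorem all_vc {P : V8 → Prop} (h : ∀ m, m < 256 → P (vc m)) (v : V8) : P v := by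
  obtain ⟨m, hm, rfl⟩ := vc_surj v; exact h m hm

theorem add_eq_zero2 {v w : V8} : v + w = 0 ↔ v = w := by
  rw [add_eq_zero_iff_eq_neg, vec2_neg]

theorem rf_not_mem {a : V8} (ha : qf a = 1) : rf a ∉ Om := fun h => by
  have c : allL okW [[17], [35], [21], [68], [23], [34], [27], [238]] = true := by decide +kernel
  have := size_le (K := Om) (L := [[17], [35], [21], [68], [23], [34], [27], [238]]) (fun l hl => by
    have c := okW_spec ((allL_iff _ _).1 c l hl)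
    have : ∃ b, l = [b] := by simp at hl; rcases hl with e | e | e | e | e | e | e | e <;> exact ⟨_, e⟩
    obtain ⟨b, rfl⟩ := this
    have c := c b (by simp)
    have := Om.mul_mem (rf_mul_mem ((qf_vc_one c.1).2 c.2) ha) h
    rw [mul_assoc, rf_mul_self] at this
    rwa [rw_cons, rw_nil]) (by decide +kernel) ch120_low
  rw [ch120_size, card_Om] at this
  omega

section invol
variable {σ : O8}

theorem smul_smul_self (h : σ * σ = 1) (v : V8) : σ • σ • v = v := by rw [← mul_smul, h, one_smul]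

theorem fix_N (h : σ * σ = 1) (v : V8) : σ • (σ • v + v) = σ • v + v := by
  rw [smul_add, smul_smul_self h, add_comm]

theorem adj (h : σ * σ = 1) (u v : V8) : bf (σ • u + u) v = bf u (σ • v + v) := by
  rw [bf_add_left, bf_add_right, ← bf_O8 σ (σ • u), smul_smul_self h]

theorem bf_N_fix (h : σ * σ = 1) (u : V8) {v : V8} (hv : σ • v = v) : bf (σ • u + u) v = 0 := by
  rw [adj h, hv, vec2_add_self, bf_zero_right]

theorem qf_N (v : V8) : qf (σ • v + v) = bf v (σ • v + v) := by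
  rw [qf_add, qf_O8, zmod2_add_self, zero_add, bf_add_right, bf_self, add_zero, bf_comm]

theorem N_add (u v : V8) : σ • (u + v) + (u + v) = (σ • u + u) + (σ • v + v) := by
  rw [smul_add]; abel

theorem exists_moved' (h1 : σ ≠ 1) : ∃ v : V8, σ • v + v ≠ 0 := by
  by_contra hn
  push Not at hn
  exact h1 (O8_ext fun v => by rw [one_smul]; exact add_eq_zero2.1 (hn v))

theorem exists_sing (hm : σ ∈ Om) (h : σ * σ = 1) (h1 : σ ≠ 1) :
    ∃ v : V8, σ • v + v ≠ 0 ∧ qf (σ • v + v) = 0 := by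
  by_contra hn
  have k : ∀ v : V8, σ • v + v ≠ 0 → qf (σ • v + v) = 1 := fun v hv =>
    (zmod2_cases _).resolve_left fun e => hn ⟨v, hv, e⟩
  obtain ⟨u, hu⟩ := exists_moved' h1
  refine rf_not_mem (k u hu) ?_
  have : rf (σ • u + u) = σ := O8_ext fun v => by
    by_cases e : σ • v + v = 0
    · rw [rf_of_zero (k u hu) (by rw [← adj h, e, bf_zero_left]), add_eq_zero2.1 e]
    · have e2 : σ • v + v = σ • u + u := by
        by_contra e2
        have := k (v + u) (by rw [N_add]; exact fun f => e2 (add_eq_zero2.1 f))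
        rw [N_add, qf_add, k v e, k u hu, bf_N_fix h _ (fix_N h u)] at this
        exact absurd this (by decide)
      rw [rf_of_one (k u hu) (by rw [← e2, ← qf_N, k v e]), ← e2, add_comm, add_assoc, vec2_add_self, add_zero]
  rwa [this]

end invol

/-! ### Witt's lemma -/

theorem indep {ι : Type} [Fintype ι] [DecidableEq ι] {u : ι → V8} (p : ι → ι)
    (hu : ∀ i j, bf (u i) (u (p j)) = if i = j then 1 else 0) : LinearIndependent (ZMod 2) u := by
  refine Fintype.linearIndependent_iff.2 fun g hg j => ?_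
  have k : ∀ s : Finset ι, bf (∑ i ∈ s, g i • u i) (u (p j)) = ∑ i ∈ s, g i * if i = j then 1 else 0 :=
    fun s => by
      induction s using Finset.induction_on with
      | empty => simp [bf_zero_left]
      | insert a s ha ih => rw [Finset.sum_insert ha, Finset.sum_insert ha, bf_add_left, ih, bf_smul_left, hu]
  have := k Finset.univ
  rw [hg, bf_zero_left] at this
  simpa using this.symm

theorem witt8 {ι : Type} [Fintype ι] [DecidableEq ι] (u v : ι → V8) (p : ι → ι)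
    (hu : ∀ i j, bf (u i) (u (p j)) = if i = j then 1 else 0)
    (h : ∀ i j, bf (v i) (v j) = bf (u i) (u j)) (hq : ∀ i, qf (v i) = qf (u i)) :
    ∃ τ : O8, ∀ i, τ • v i = u i := by
  obtain ⟨g, h1, h2⟩ := H28.witt_quad_family (H66.qPlus 4 (ZMod 2)) (fun x hx => nondeg fun w => by
      rw [← Crd.polar_eq]; exact hx w) v u (indep p fun i j => by rw [h, hu]) (indep p hu)
    (fun i j _ => by rw [Crd.polar_eq, Crd.polar_eq, h]) fun i => by
      rw [H66.qPlus_apply, H66.qPlus_apply]; exact (hq i).symm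
  obtain ⟨τ, hτ⟩ := exists_O8 g (map_add g) fun x => by
    have := h1 x
    rwa [H66.qPlus_apply, H66.qPlus_apply] at this
  exact ⟨τ, fun i => (hτ _).trans (h2 i)⟩

/-! ### normal forms -/

/-- the word of the involution of rank two -/
def l2 : List ℕ := [68, 69, 70, 71]
/-- the word of the involution of rank four -/
def l4 : List ℕ := [68, 69, 70, 71, 17, 21, 25, 29]
theorem ok2 : okW l2 = true := by decide +kernel
theorem ok4 : okW l4 = true := by decide +kernel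
/-- the involution of rank two -/
noncomputable def s2 : O8 := rw l2
/-- the involution of rank four -/
noncomputable def s4 : O8 := rw l4

theorem s2_vc {m : ℕ} (h : m < 256) : s2 • vc m = vc (rwm l2 m) := (rw_vc ok2 h).2
theorem s4_vc {m : ℕ} (h : m < 256) : s4 • vc m = vc (rwm l4 m) := (rw_vc ok4 h).2

theorem exists_pair {σ : O8} (h : σ * σ = 1) (hs : ∀ v : V8, qf (σ • v + v) = 0) {P : V8 → Prop}
    (hadd : ∀ v w, P v → P w → P (v + w)) (h0 : P 0) (hσ : ∀ v, P v → P (σ • v)) {x y : V8} (hx : P x) (hy : P y)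
    (e : bf y (σ • x + x) = 1) : ∃ u w a b : V8, P u ∧ P w ∧ P a ∧ P b ∧ σ • u = u + b ∧ σ • w = w + a ∧
      σ • a = a ∧ σ • b = b ∧ qf u = 0 ∧ qf w = 0 ∧ qf a = 0 ∧ qf b = 0 ∧ bf u w = 0 ∧ bf u a = 1 ∧ bf u b = 0 ∧
      bf w a = 0 ∧ bf w b = 1 ∧ bf a b = 0 := by
  have hsm : ∀ (c : ZMod 2) v, P v → P (c • v) := fun c v hv => by
    rcases zmod2_cases c with rfl | rfl
    · rwa [zero_smul]
    · rwa [one_smul]
  have pa := hadd _ _ (hσ y hy) hy
  have pb := hadd _ _ (hσ x hx) hx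
  have fa := fix_N h y
  have fb := fix_N h x
  have qa := hs y
  have qb := hs x
  have xa : bf x (σ • y + y) = 1 := by rw [← adj h, bf_comm, e]
  have xb : bf x (σ • x + x) = 0 := by rw [← qf_N, hs]
  have ya : bf y (σ • y + y) = 0 := by rw [← qf_N, hs]
  have ab : bf (σ • y + y) (σ • x + x) = 0 := bf_N_fix h _ fb
  have ex : σ • x = x + (σ • x + x) := by rw [add_comm, add_assoc, vec2_add_self, add_zero]
  have ey : σ • y = y + (σ • y + y) := by rw [add_comm, add_assoc, vec2_add_self, add_zero]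
  generalize σ • y + y = a at *
  generalize σ • x + x = b at *
  have ba := (bf_comm _ _).trans ab
  have ay := (bf_comm _ _).trans ya
  have hb := (bf_comm _ _).trans e
  refine ⟨x + qf x • a + bf x y • b, y + qf y • b, a, b, hadd _ _ (hadd _ _ hx (hsm _ _ pa)) (hsm _ _ pb),
    hadd _ _ hy (hsm _ _ pb), pa, pb, ?_, ?_, fa, fb, ?_, ?_, qa, qb, ?_, ?_, ?_, ?_, ?_, ab⟩
  · rw [smul_add, smul_add, O8_smul_smul, O8_smul_smul, fa, fb, ex]; abel
  · rw [smul_add, O8_smul_smul, fb, ey]; abel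
  all_goals simp only [qf_add, qf_smul, bf_add_left, bf_add_right, bf_smul_left, bf_smul_right, bf_self, qa, qb,
    xa, xb, ya, ab, ba, ay, hb, e, mul_zero, mul_one, add_zero, zero_add, zmod2_add_self]

theorem gram {u w a b : V8} (b1 : bf u w = 0) (b2 : bf u a = 1) (b3 : bf u b = 0) (b4 : bf w a = 0)
    (b5 : bf w b = 1) (b6 : bf a b = 0) (i j : Fin 4) :
    bf (![a, b, u, w] i) (![a, b, u, w] j) = ![![0, 0, 1, 0], ![0, 0, 0, 1], ![1, 0, 0, 0], ![0, 1, 0, 0]] i j := by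
  have c1 := (bf_comm _ _).trans b1
  have c2 := (bf_comm _ _).trans b2
  have c3 := (bf_comm _ _).trans b3
  have c4 := (bf_comm _ _).trans b4
  have c5 := (bf_comm _ _).trans b5
  have c6 := (bf_comm _ _).trans b6
  fin_cases i <;> fin_cases j
  exacts [bf_self a, b6, c2, c4, c6, bf_self b, c3, c5, b2, b3, bf_self u, b1, b4, b5, c1, bf_self w]

theorem gramq {u w a b : V8} (q1 : qf u = 0) (q2 : qf w = 0) (q3 : qf a = 0) (q4 : qf b = 0) (i : Fin 4) :
    qf (![a, b, u, w] i) = 0 := by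
  fin_cases i
  exacts [q3, q4, q1, q2]

theorem conj_smul (τ σ : O8) (v : V8) : (τ * σ * τ⁻¹) • τ • v = τ • σ • v := by
  rw [mul_smul, mul_smul, inv_smul_smul]

theorem conj_invol (τ : O8) {σ : O8} (h : σ * σ = 1) : τ * σ * τ⁻¹ * (τ * σ * τ⁻¹) = 1 := by
  rw [conj_mul, h, mul_one, mul_inv_cancel]

theorem conj_sing (τ : O8) {σ : O8} (hs : ∀ v : V8, qf (σ • v + v) = 0) (v : V8) :
    qf ((τ * σ * τ⁻¹) • v + v) = 0 := by
  rw [← smul_inv_smul τ v, conj_smul, ← smul_add, qf_O8, hs]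

theorem lt8 {P : ℕ → Prop} (h0 : P 0) (h1 : P 1) (h2 : P 2) (h3 : P 3) (h4 : P 4) (h5 : P 5) (h6 : P 6)
    (h7 : P 7) : ∀ j, j < 8 → P j := fun j hj => by interval_cases j <;> assumption

theorem eq_zero_of_basis {v : V8} (h : ∀ j, j < 8 → bf v (vc (2 ^ j)) = 0) : v = 0 :=
  nondeg (vc_ind (bf_zero_right _) (fun a b ha hb => by rw [bf_add_right, ha, hb, add_zero]) h)

theorem stage2 {σ : O8} (h : σ * σ = 1) (hs : ∀ v : V8, qf (σ • v + v) = 0)
    (a1 : σ • vc 16 = vc 16 + vc 2) (a2 : σ • vc 32 = vc 32 + vc 1) (a3 : σ • vc 1 = vc 1)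
    (a4 : σ • vc 2 = vc 2) : σ = s2 ∨ ∃ τ : O8, τ * σ * τ⁻¹ = s4 := by
  let P : V8 → Prop := fun v => bf v (vc 1) = 0 ∧ bf v (vc 2) = 0 ∧ bf v (vc 16) = 0 ∧ bf v (vc 32) = 0
  have hadd : ∀ v w, P v → P w → P (v + w) := fun v w a b => by
    simp only [P, bf_add_left, a.1, a.2.1, a.2.2.1, a.2.2.2, b.1, b.2.1, b.2.2.1, b.2.2.2, add_zero, and_self]
  have k : ∀ v w, bf (σ • v) w = bf v (σ • w) := fun v w => by rw [← bf_O8 σ, smul_smul_self h]
  have hσ : ∀ v, P v → P (σ • v) := fun v a => by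
    simp only [P, k, a1, a2, a3, a4, bf_add_right, a.1, a.2.1, a.2.2.1, a.2.2.2, add_zero, and_self]
  have h0 : P 0 := ⟨bf_zero_left _, bf_zero_left _, bf_zero_left _, bf_zero_left _⟩
  have pm : ∀ m ∈ [4, 8, 64, 128], P (vc m) := by decide +kernel
  by_cases hf : ∀ m ∈ [4, 8, 64, 128], ∀ n ∈ [4, 8, 64, 128], bf (vc n) (σ • vc m + vc m) = 0
  · have f : ∀ m ∈ [4, 8, 64, 128], σ • vc m = vc m := fun m hm => by
      have p := hadd _ _ (hσ _ (pm m hm)) (pm m hm)
      have t : ∀ n ∈ [4, 8, 64, 128], bf (σ • vc m + vc m) (vc n) = 0 := fun n hn =>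
        (bf_comm _ _).trans (hf m hm n hn)
      exact add_eq_zero2.1 (eq_zero_of_basis (lt8 p.1 p.2.1 (t 4 (by simp)) (t 8 (by simp)) p.2.2.1 p.2.2.2
        (t 64 (by simp)) (t 128 (by simp))))
    refine Or.inl (O8_ext' (lt8 ?_ ?_ ?_ ?_ ?_ ?_ ?_ ?_)) <;> rw [s2_vc (by norm_num)]
    · exact a3.trans (by decide +kernel)
    · exact a4.trans (by decide +kernel)
    · exact (f 4 (by simp)).trans (by decide +kernel)
    · exact (f 8 (by simp)).trans (by decide +kernel)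
    · exact a1.trans (by decide +kernel)
    · exact a2.trans (by decide +kernel)
    · exact (f 64 (by simp)).trans (by decide +kernel)
    · exact (f 128 (by simp)).trans (by decide +kernel)
  push Not at hf
  obtain ⟨m, hm, n, hn, e⟩ := hf
  obtain ⟨u, w, a, b, pu, pw, pa, pb, su, sw, sa, sb, q1, q2, q3, q4, b1, b2, b3, b4, b5, b6⟩ :=
    exists_pair h hs hadd h0 hσ (pm m hm) (pm n hn) ((zmod2_cases _).resolve_left e)
  have g1 : ∀ i j : Fin 4, bf (![a, b, u, w] i) (![vc 1, vc 2, vc 16, vc 32] j) = 0 := fun i j => by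
    have : P (![a, b, u, w] i) := by
      fin_cases i
      exacts [pa, pb, pu, pw]
    fin_cases j
    exacts [this.1, this.2.1, this.2.2.1, this.2.2.2]
  have g2 : ∀ i j : Fin 4, bf (![vc 4, vc 8, vc 64, vc 128] i) (![vc 1, vc 2, vc 16, vc 32] j) = 0 := by
    decide +kernel
  obtain ⟨τ, hτ⟩ := witt8 (Sum.elim ![vc 1, vc 2, vc 16, vc 32] ![vc 4, vc 8, vc 64, vc 128])
    (Sum.elim ![vc 1, vc 2, vc 16, vc 32] ![a, b, u, w]) (Sum.map ![2, 3, 0, 1] ![2, 3, 0, 1])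
    (by decide +kernel) (by
      rintro (i | i) (j | j)
      · rfl
      · exact ((bf_comm _ _).trans (g1 j i)).trans ((bf_comm _ _).trans (g2 j i)).symm
      · exact (g1 i j).trans (g2 i j).symm
      · exact (gram b1 b2 b3 b4 b5 b6 i j).trans (by revert i j; decide +kernel))
    (by
      rintro (i | i)
      · rfl
      · exact (gramq q1 q2 q3 q4 i).trans (by revert i; decide +kernel))
  have t1 : τ • vc 1 = vc 1 := hτ (.inl 0)
  have t2 : τ • vc 2 = vc 2 := hτ (.inl 1)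
  have t3 : τ • vc 16 = vc 16 := hτ (.inl 2)
  have t4 : τ • vc 32 = vc 32 := hτ (.inl 3)
  have t5 : τ • a = vc 4 := hτ (.inr 0)
  have t6 : τ • b = vc 8 := hτ (.inr 1)
  have t7 : τ • u = vc 64 := hτ (.inr 2)
  have t8 : τ • w = vc 128 := hτ (.inr 3)
  have z : ∀ {v x y : V8}, τ • v = x → τ • σ • v = y → (τ * σ * τ⁻¹) • x = y := fun e f => by
    rw [← e, conj_smul, f]
  refine Or.inr ⟨τ, O8_ext' (lt8 ?_ ?_ ?_ ?_ ?_ ?_ ?_ ?_)⟩ <;> rw [s4_vc (by norm_num)]
  · exact z t1 (by rw [a3, t1]; decide +kernel)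
  · exact z t2 (by rw [a4, t2]; decide +kernel)
  · exact z t5 (by rw [sa, t5]; decide +kernel)
  · exact z t6 (by rw [sb, t6]; decide +kernel)
  · exact z t3 (by rw [a1, smul_add, t3, t2]; decide +kernel)
  · exact z t4 (by rw [a2, smul_add, t4, t1]; decide +kernel)
  · exact z t7 (by rw [su, smul_add, t7, t6]; decide +kernel)
  · exact z t8 (by rw [sw, smul_add, t8, t5]; decide +kernel)

theorem normal_form {σ : O8} (h : σ * σ = 1) (h1 : σ ≠ 1) (hs : ∀ v : V8, qf (σ • v + v) = 0) :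
    ∃ τ : O8, τ * σ * τ⁻¹ = s2 ∨ τ * σ * τ⁻¹ = s4 := by
  obtain ⟨x, hx⟩ := exists_moved' h1
  obtain ⟨y, hy⟩ : ∃ y, bf y (σ • x + x) = 1 := by
    by_contra hn
    exact hx (nondeg fun w => (bf_comm _ _).trans ((zmod2_cases _).resolve_right fun e => hn ⟨w, e⟩))
  obtain ⟨u, w, a, b, -, -, -, -, su, sw, sa, sb, q1, q2, q3, q4, b1, b2, b3, b4, b5, b6⟩ :=
    exists_pair h hs (P := fun _ => True) (fun _ _ _ _ => trivial) trivial (fun _ _ => trivial) trivial trivial hy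
  obtain ⟨τ, hτ⟩ := witt8 ![vc 1, vc 2, vc 16, vc 32] ![a, b, u, w] ![2, 3, 0, 1]
    (by decide +kernel) (fun i j => (gram b1 b2 b3 b4 b5 b6 i j).trans (by revert i j; decide +kernel))
    (fun i => (gramq q1 q2 q3 q4 i).trans (by revert i; decide +kernel))
  have t5 : τ • a = vc 1 := hτ 0
  have t6 : τ • b = vc 2 := hτ 1
  have t7 : τ • u = vc 16 := hτ 2
  have t8 : τ • w = vc 32 := hτ 3
  have z : ∀ {v x y : V8}, τ • v = x → τ • σ • v = y → (τ * σ * τ⁻¹) • x = y := fun e f => by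
    rw [← e, conj_smul, f]
  rcases stage2 (conj_invol τ h) (conj_sing τ hs) (z t7 (by rw [su, smul_add, t7, t6]))
    (z t8 (by rw [sw, smul_add, t8, t5])) (z t5 (by rw [sa, t5])) (z t6 (by rw [sb, t6])) with e | ⟨τ', e⟩
  · exact ⟨τ, Or.inl e⟩
  · exact ⟨τ' * τ, Or.inr (by rw [← e]; group)⟩

/-- vectors orthogonal to the fixed space are commutators -/
def Perp (σ : O8) : Prop := ∀ w : V8, (∀ v : V8, σ • v = v → bf w v = 0) → ∃ u : V8, w = σ • u + u

/-- the fixed space is totally isotropic -/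
def Iso (σ : O8) : Prop := ∀ v w : V8, σ • v = v → σ • w = w → bf v w = 0

theorem perp_of {l F : List ℕ} (hl : okW l = true)
    (c1 : allL (fun f => band (Nat.blt f 256) (Nat.beq (rwm l f) f)) F = true)
    (c2 : allLt (fun m => bimp (allL (fun f => Nat.beq (bb m f) 0) F)
      (ex8 fun k => Nat.beq (Nat.xor (rwm l k) k) m)) 256 = true) : Perp (rw l) := by
  refine all_vc fun m hm hw => ?_
  simp only [allL_iff, band_eq_true, Nat.blt_eq, Nat.beq_eq] at c1
  obtain ⟨k, hk, e⟩ := ex8_spec ((bimp_eq_true _ _).1 ((allLt_iff _ _).1 c2 m hm) ((allL_iff _ _).2 fun f hf =>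
    Nat.beq_eq.mpr ((bf_vc_zero hm (c1 f hf).1).1 (hw _ (by rw [(rw_vc hl (c1 f hf).1).2, (c1 f hf).2])))))
  exact ⟨vc k, by rw [(rw_vc hl hk).2, ← vc_xor, Nat.eq_of_beq_eq_true e]⟩

theorem perp2 : Perp s2 := perp_of (F := [1, 2, 4, 8, 64, 128]) ok2 (by decide +kernel) (by decide +kernel)
theorem perp4 : Perp s4 := perp_of (F := [1, 2, 4, 8]) ok4 (by decide +kernel) (by decide +kernel)

theorem s2_smul : ∀ v : V8, s2 • v + v = bf v (vc 1) • vc 2 + bf v (vc 2) • vc 1 :=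
  all_vc fun m hm => by
    rw [s2_vc hm]; revert m; decide +kernel

theorem s2_fix : ∀ m ∈ [1, 2, 4, 8, 64, 128], s2 • vc m = vc m := fun m hm => by
  rw [s2_vc (by revert m; decide)]; revert m; decide +kernel

theorem not_iso2 : ¬ Iso s2 := fun h =>
  absurd (h _ _ (s2_fix 4 (by simp)) (s2_fix 64 (by simp))) (by decide +kernel)

theorem s4_fix : ∀ v : V8, s4 • v = v ↔
    bf v (vc 1) = 0 ∧ bf v (vc 2) = 0 ∧ bf v (vc 4) = 0 ∧ bf v (vc 8) = 0 :=
  all_vc fun m hm => by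
    rw [s4_vc hm]; revert m; decide +kernel

theorem eq_W : ∀ v : V8, bf v (vc 1) = 0 → bf v (vc 2) = 0 → bf v (vc 4) = 0 → bf v (vc 8) = 0 →
    v = bf (vc 16) v • vc 1 + bf (vc 32) v • vc 2 + bf (vc 64) v • vc 4 + bf (vc 128) v • vc 8 :=
  all_vc (by decide +kernel)

theorem iso4 : Iso s4 := fun v w hv hw => by
  obtain ⟨a, b, c, d⟩ := (s4_fix v).1 hv
  obtain ⟨a', b', c', d'⟩ := (s4_fix w).1 hw
  rw [eq_W w a' b' c' d']
  simp only [bf_add_right, bf_smul_right, a, b, c, d, mul_zero, add_zero]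

theorem Iso.conj {σ : O8} (τ : O8) (h : Iso (τ * σ * τ⁻¹)) : Iso σ := fun v w hv hw => by
  rw [← bf_O8 τ]
  exact h _ _ (by rw [conj_smul, hv]) (by rw [conj_smul, hw])

/-! ### rank two -/

/-- first arguments -/
def xs : Fin 4 ⊕ Fin 4 → ℕ := Sum.elim (fun _ => 16) fun _ => 32
/-- second arguments -/
def ms : Fin 4 ⊕ Fin 4 → ℕ := Sum.elim ![4, 8, 64, 128] ![4, 8, 64, 128]
/-- the class of an element of the unipotent radical -/
def enc2 (τ : O8) : V8 := fun i => bf (vc (xs i)) (τ • vc (ms i))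

/-- elements of the unipotent radical -/
structure U2 (τ : O8) : Prop where
  f1 : τ • vc 1 = vc 1
  f2 : τ • vc 2 = vc 2
  sub : ∀ v : V8, s2 • v = v → ∃ u : V8, τ • v + v = s2 • u + u

theorem eq_add_of {v w x : V8} (h : v + w = x) : v = w + x := by
  rw [← h, add_comm v, ← add_assoc, vec2_add_self, zero_add]

theorem s2_ms (i : Fin 4 ⊕ Fin 4) : s2 • vc (ms i) = vc (ms i) := s2_fix _ (by revert i; decide)

theorem enc2_mul {τ τ' : O8} (a : U2 τ) (b : U2 τ') : enc2 (τ * τ') = enc2 τ + enc2 τ' := by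
  funext i
  have z : bf (vc (xs i)) (vc (ms i)) = 0 := by revert i; decide +kernel
  obtain ⟨u, e⟩ := b.sub _ (s2_ms i)
  rw [s2_smul] at e
  simp only [enc2, Pi.add_apply, mul_smul, eq_add_of e, smul_add, O8_smul_smul, a.f1, a.f2, bf_add_right, z,
    zero_add]

theorem enc2_mul_s2 (τ : O8) : enc2 (τ * s2) = enc2 τ := by
  funext i; simp only [enc2, mul_smul, s2_ms]

theorem U2.fix {τ : O8} (a : U2 τ) (e : enc2 τ = 0) : ∀ v : V8, s2 • v = v → τ • v = v := by
  have k : ∀ i : Fin 4, τ • vc (ms (.inl i)) = vc (ms (.inl i)) := fun i => by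
    obtain ⟨u, f⟩ := a.sub _ (s2_ms (.inl i))
    have e1 : bf (vc 16) (τ • vc (ms (.inl i))) = 0 := congrFun e (.inl i)
    have e2 : bf (vc 32) (τ • vc (ms (.inl i))) = 0 := congrFun e (.inr i)
    rw [s2_smul] at f
    rw [eq_add_of f] at e1 e2 ⊢
    clear f
    generalize bf u (vc 1) = c, bf u (vc 2) = d at *
    revert i c d; decide +kernel
  have d : ∀ v : V8, s2 • v = v → v = v (.inl 0) • vc 1 + v (.inl 1) • vc 2 + v (.inl 2) • vc 4 +
      v (.inl 3) • vc 8 + v (.inr 2) • vc 64 + v (.inr 3) • vc 128 := all_vc fun m hm => by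
    rw [s2_vc hm]; revert m; decide +kernel
  intro v hv
  have k0 : τ • vc 4 = vc 4 := k 0
  have k1 : τ • vc 8 = vc 8 := k 1
  have k2 : τ • vc 64 = vc 64 := k 2
  have k3 : τ • vc 128 = vc 128 := k 3
  rw [d v hv]
  simp only [smul_add, O8_smul_smul, a.f1, a.f2, k0, k1, k2, k3]

/-- six involutions in the centraliser -/
def K2 (k : ℕ) : List ℕ := [[68, 69, 100, 101], [68, 70, 84, 86], [17, 21, 145, 149], [17, 25, 81, 89],
  [17, 21, 25, 29], [17, 81, 145, 209]].getD k []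

theorem K2_ok {k : ℕ} (hk : k < 6) : okW (K2 k) = true ∧ rw (K2 k) ∈ Om ∧ rw (K2 k) * s2 = s2 * rw (K2 k) ∧
    (rw (K2 k))⁻¹ = rw (K2 k) := by
  have c : ∀ k, k < 6 → band (okW (K2 k)) (Nat.beq (Nat.mod (len (K2 k)) 2) 0) = true ∧
      eqW (K2 k ++ l2) (l2 ++ K2 k) = true ∧ eqW (K2 k).reverse (K2 k) = true := by decide +kernel
  obtain ⟨a, b, c⟩ := c k hk
  exact ⟨((band_eq_true _ _).1 a).1, rw_mem a, by rw [s2, ← rw_append, ← rw_append, rw_eq b],
    by rw [← rw_reverse, rw_eq c]⟩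

/-- the action of a word on the classes -/
noncomputable def Tv (l : List ℕ) (E : V8) : V8 := fun i =>
  vc (rwm l (xs i)) (.inr 0) * (vc (rwm l (ms i)) (.inl 2) * E (.inl 0) + vc (rwm l (ms i)) (.inl 3) * E (.inl 1) +
    vc (rwm l (ms i)) (.inr 2) * E (.inl 2) + vc (rwm l (ms i)) (.inr 3) * E (.inl 3)) +
  vc (rwm l (xs i)) (.inr 1) * (vc (rwm l (ms i)) (.inl 2) * E (.inr 0) + vc (rwm l (ms i)) (.inl 3) * E (.inr 1) +
    vc (rwm l (ms i)) (.inr 2) * E (.inr 2) + vc (rwm l (ms i)) (.inr 3) * E (.inr 3))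

theorem enc2_conj {k : ℕ} (hk : k < 6) (τ : O8) :
    enc2 (rw (K2 k) * τ * (rw (K2 k))⁻¹) = Tv (K2 k) (enc2 τ) := by
  funext i
  obtain ⟨a, -, -, b⟩ := K2_ok hk
  have c : ∀ k, k < 6 → ∀ i, xs i < 256 ∧ ms i < 256 ∧ vc (rwm (K2 k) (xs i)) =
      vc (rwm (K2 k) (xs i)) (.inr 0) • vc 16 + vc (rwm (K2 k) (xs i)) (.inr 1) • vc 32 ∧
      vc (rwm (K2 k) (ms i)) = vc (rwm (K2 k) (ms i)) (.inl 2) • vc 4 + vc (rwm (K2 k) (ms i)) (.inl 3) • vc 8 +
        vc (rwm (K2 k) (ms i)) (.inr 2) • vc 64 + vc (rwm (K2 k) (ms i)) (.inr 3) • vc 128 := by decide +kernel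
  obtain ⟨c1, c2, c3, c4⟩ := c k hk i
  have : enc2 (rw (K2 k) * τ * (rw (K2 k))⁻¹) i = bf (vc (rwm (K2 k) (xs i))) (τ • vc (rwm (K2 k) (ms i))) := by
    rw [enc2, mul_smul, mul_smul, ← bf_O8 (rw (K2 k))⁻¹, inv_smul_smul, b, (rw_vc a c1).2, (rw_vc a c2).2]
  rw [this, Tv]
  generalize vc (rwm (K2 k) (xs i)) (.inr 0) = a1, vc (rwm (K2 k) (xs i)) (.inr 1) = a2,
    vc (rwm (K2 k) (ms i)) (.inl 2) = b1, vc (rwm (K2 k) (ms i)) (.inl 3) = b2,
    vc (rwm (K2 k) (ms i)) (.inr 2) = b3, vc (rwm (K2 k) (ms i)) (.inr 3) = b4 at *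
  rw [c3, c4]
  simp only [smul_add, O8_smul_smul, bf_add_left, bf_add_right, bf_smul_left, bf_smul_right]
  show _ = a1 * (b1 * bf (vc 16) (τ • vc 4) + b2 * bf (vc 16) (τ • vc 8) + b3 * bf (vc 16) (τ • vc 64) +
    b4 * bf (vc 16) (τ • vc 128)) + a2 * (b1 * bf (vc 32) (τ • vc 4) + b2 * bf (vc 32) (τ • vc 8) +
    b3 * bf (vc 32) (τ • vc 64) + b4 * bf (vc 32) (τ • vc 128))
  ring

/-- the same on masks -/
def Tm (k p : ℕ) : ℕ := Nat.land (Nat.shiftRight 0xcccdcecfcacbc8c9c5c4c7c6c3c2c1c0dcdddedfdadbd8d9d5d4d7d6d3d2d1d0ecedeeefeaebe8e9e5e4e7e6e3e2e1e0fcfdfefffafbf8f9f5f4f7f6f3f2f1f0acadaeafaaaba8a9a5a4a7a6a3a2a1a0bcbdbebfbabbb8b9b5b4b7b6b3b2b1b08c8d8e8f8a8b888985848786838281809c9d9e9f9a9b989995949796939291905c5d5e5f5a5b585955545756535251504c4d4e4f4a4b484945444746434241407c7d7e7f7a7b787975747776737271706c6d6e6f6a6b686965646766636261603c3d3e3f3a3b383935343736333231302c2d2e2f2a2b282925242726232221201c1d1e1f1a1b181915141716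131211100c0d0e0f0a0b08090504070603020100333a353c373e31383b323d343f363930a3aaa5aca7aea1a8aba2ada4afa6a9a0535a555c575e51585b525d545f565950c3cac5ccc7cec1c8cbc2cdc4cfc6c9c0737a757c777e71787b727d747f767970e3eae5ece7eee1e8ebe2ede4efe6e9e0131a151c171e11181b121d141f161910838a858c878e81888b828d848f868980b3bab5bcb7beb1b8bbb2bdb4bfb6b9b0232a252c272e21282b222d242f262920d3dad5dcd7ded1d8dbd2ddd4dfd6d9d0434a454c474e41484b424d444f464940f3faf5fcf7fef1f8fbf2fdf4fff6f9f0636a656c676e61686b626d646f666960939a959c979e91989b929d949f969990030a050c070e01080b020d040f060900666765646a6b69686e6f6d6c62636160767775747a7b79787e7f7d7c72737170565755545a5b59585e5f5d5c52535150464745444a4b49484e4f4d4c42434140a6a7a5a4aaaba9a8aeafadaca2a3a1a0b6b7b5b4babbb9b8bebfbdbcb2b3b1b0969795949a9b99989e9f9d9c92939190868785848a8b89888e8f8d8c82838180e6e7e5e4eaebe9e8eeefedece2e3e1e0f6f7f5f4fafbf9f8fefffdfcf2f3f1f0d6d7d5d4dadbd9d8dedfdddcd2d3d1d0c6c7c5c4cacbc9c8cecfcdccc2c3c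1c0262725242a2b29282e2f2d2c22232120363735343a3b39383e3f3d3c32333130161715141a1b19181e1f1d1c12131110060705040a0b09080e0f0d0c02030100999a9b989d9e9f9c9596979491929390a9aaaba8adaeafaca5a6a7a4a1a2a3a0b9babbb8bdbebfbcb5b6b7b4b1b2b3b0898a8b888d8e8f8c8586878481828380d9dadbd8dddedfdcd5d6d7d4d1d2d3d0e9eaebe8edeeefece5e6e7e4e1e2e3e0f9fafbf8fdfefffcf5f6f7f4f1f2f3f0c9cacbc8cdcecfccc5c6c7c4c1c2c3c0595a5b585d5e5f5c5556575451525350696a6b686d6e6f6c6566676461626360797a7b787d7e7f7c7576777471727370494a4b484d4e4f4c4546474441424340191a1b181d1e1f1c1516171411121310292a2b282d2e2f2c2526272421222320393a3b383d3e3f3c3536373431323330090a0b080d0e0f0c05060704010203000f1e2d3c4b5a69788796a5b4c3d2e1f01f0e3d2c5b4a79689786b5a4d3c2f1e02f3e0d1c6b7a4958a7b68594e3f2c1d03f2e1d0c7b6a5948b7a69584f3e2d1c04f5e6d7c0b1a2938c7d6e5f48392a1b05f4e7d6c1b0a3928d7c6f5e49382b1a06f7e4d5c2b3a0918e7f6c5d4a3b281907f6e5d4c3b2a1908f7e6d5c4b3a291808f9eadbccbdae9f807162534435261709f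8ebdacdbcaf9e81706352453427160afbe8d9cebfac9d82736051463724150bfae9d8cfbead9c83726150473625140cfdeedfc8b9aa9b84756657403122130dfcefdec9b8ab9a85746756413023120effecddcabba89986776455423320110ffeeddccbbaa99887766554433221100f0f1f2f3f4f5f6f7f8f9fafbfcfdfeffe1e0e3e2e5e4e7e6e9e8ebeaedecefeed2d3d0d1d6d7d4d5dadbd8d9dedfdcddc3c2c1c0c7c6c5c4cbcac9c8cfcecdccb4b5b6b7b0b1b2b3bcbdbebfb8b9babba5a4a7a6a1a0a3a2adacafaea9a8abaa96979495929390919e9f9c9d9a9b989987868584838281808f8e8d8c8b8a898878797a7b7c7d7e7f707172737475767769686b6a6d6c6f6e61606362656467665a5b58595e5f5c5d52535051565754554b4a49484f4e4d4c43424140474645443c3d3e3f38393a3b34353637303132332d2c2f2e29282b2a25242726212023221e1f1c1d1a1b181916171415121310110f0e0d0c0b0a09080706050403020100 (Nat.mul 8 (Nat.add (Nat.mul 256 k) p))) 255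

theorem Tm_spec : ∀ k, k < 6 → ∀ p, p < 256 → Tm k p < 256 ∧ Tv (K2 k) (vc p) = vc (Tm k p) := by
  decide +kernel

/-- a word -/
def apW (w : List ℕ) (p : ℕ) : ℕ := w.foldr Tm p
/-- a commutator -/
def Em (k p : ℕ) : ℕ := Nat.xor p (Tm k p)

theorem spin {S : V8 → Prop} (hadd : ∀ v w, S v → S w → S (v + w))
    (hT : ∀ k, k < 6 → ∀ v, S v → S (Tv (K2 k) v)) {v : V8} (hv : S v) (h0 : v ≠ 0) (w : V8) : S w := by
  have t : ∀ k, k < 6 → ∀ p, p < 256 ∧ S (vc p) → Tm k p < 256 ∧ S (vc (Tm k p)) := fun k hk p hp =>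
    ⟨(Tm_spec k hk p hp.1).1, (Tm_spec k hk p hp.1).2 ▸ hT k hk _ hp.2⟩
  have tw : ∀ l : List ℕ, (∀ k ∈ l, k < 6) → ∀ p, p < 256 ∧ S (vc p) → apW l p < 256 ∧ S (vc (apW l p)) :=
    fun l hl p hp => by
      induction l with
      | nil => exact hp
      | cons k l ih => exact t k (hl k (by simp)) _ (ih fun j hj => hl j (by simp [hj]))
  have te : ∀ k, k < 6 → ∀ p, p < 256 ∧ S (vc p) → Em k p < 256 ∧ S (vc (Em k p)) := fun k hk p hp =>
    ⟨xor_lt hp.1 (t k hk p hp).1, vc_xor _ _ ▸ hadd _ _ hp.2 (t k hk p hp).2⟩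
  obtain ⟨p, hp, rfl⟩ := vc_surj v
  have c : ∀ p, p < 256 → p = 0 ∨ ∃ l ∈ [[], [5], [3], [3, 5], [1], [1, 5], [1, 3], [1, 3, 5]],
      (∀ k ∈ l, k < 6) ∧ Em 4 (Em 2 (Em 0 (apW l p))) = 4 := by decide +kernel
  obtain ⟨l, -, hl, e⟩ := (c p hp).resolve_left fun e => h0 (e ▸ vc_zero)
  have h4 := te 4 (by norm_num) _ (te 2 (by norm_num) _ (te 0 (by norm_num) _ (tw l hl p ⟨hp, hv⟩)))
  rw [e] at h4
  have c2 : ∀ j, j < 8 → ∃ l ∈ [[4, 5, 2, 3], [4, 5], [], [2, 3], [4, 5, 2, 3, 0, 1], [4, 5, 0, 1], [0, 1],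
      [2, 3, 0, 1]], (∀ k ∈ l, k < 6) ∧ apW l 4 = 2 ^ j := by decide +kernel
  refine vc_ind (vec2_add_self (vc p) ▸ hadd _ _ hv hv) hadd (fun j hj => ?_) w
  obtain ⟨l, -, hl, e⟩ := c2 j hj
  exact e ▸ (tw l hl 4 h4).2

theorem fix_L {τ : O8} {u : V8} (h0 : s2 • u + u ≠ 0)
    (h : ∀ k, k < 2 → τ • rw (K2 k) • (s2 • u + u) = rw (K2 k) • (s2 • u + u))
    (h1 : τ • (s2 • u + u) = s2 • u + u) : τ • vc 1 = vc 1 ∧ τ • vc 2 = vc 2 := by
  have a := h 0 (by norm_num)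
  have b := h 1 (by norm_num)
  have r : ∀ k, k < 6 → ∀ m, m < 256 → rw (K2 k) • vc m = vc (rwm (K2 k) m) := fun k hk m hm =>
    (rw_vc (K2_ok hk).1 hm).2
  have r1 : rw (K2 0) • vc 1 = vc 1 := (r 0 (by norm_num) 1 (by norm_num)).trans (by decide +kernel)
  have r2 : rw (K2 0) • vc 2 = vc 1 + vc 2 := (r 0 (by norm_num) 2 (by norm_num)).trans (by decide +kernel)
  have r3 : rw (K2 1) • vc 1 = vc 1 + vc 2 := (r 1 (by norm_num) 1 (by norm_num)).trans (by decide +kernel)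
  have r4 : rw (K2 1) • vc 2 = vc 2 := (r 1 (by norm_num) 2 (by norm_num)).trans (by decide +kernel)
  have x1 : vc 1 + vc 2 + vc 1 = vc 2 := by decide +kernel
  have x2 : vc 2 + (vc 1 + vc 2) = vc 1 := by decide +kernel
  rw [s2_smul] at a b h0 h1
  rcases zmod2_cases (bf u (vc 1)) with c | c <;> rcases zmod2_cases (bf u (vc 2)) with d | d <;>
    simp only [c, d, zero_smul, one_smul, add_zero, zero_add, smul_add, r1, r2, r3, r4] at a b h0 h1
  · exact absurd rfl h0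
  · rw [h1] at b; exact ⟨h1, add_left_cancel b⟩
  · rw [h1] at a; exact ⟨add_right_cancel a, h1⟩
  · rw [← smul_add, ← smul_add, x1] at a
    rw [a] at h1; exact ⟨add_left_cancel h1, a⟩

/-! ### rank four -/

/-- first arguments -/
def x4 : Fin 4 ⊕ Fin 4 → ℕ := Sum.elim ![16, 16, 16, 0] ![64, 32, 32, 0]
/-- second arguments -/
def m4 : Fin 4 ⊕ Fin 4 → ℕ := Sum.elim ![32, 64, 128, 0] ![128, 128, 64, 0]
/-- the alternating matrix of an element -/
def enc4 (τ : O8) : V8 := fun i => bf (vc (x4 i)) (τ • vc (m4 i))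

/-- the element fixes the maximal singular subspace -/
def U4 (τ : O8) : Prop := ∀ v : V8, s4 • v = v → τ • v = v

theorem s4_e : ∀ m ∈ [1, 2, 4, 8], s4 • vc m = vc m := fun m hm => by
  rw [s4_fix]; revert m; decide +kernel

theorem U4.sub {τ : O8} (a : U4 τ) (v : V8) : s4 • (τ • v + v) = τ • v + v := by
  have k : ∀ m ∈ [1, 2, 4, 8], bf (τ • v + v) (vc m) = 0 := fun m hm => by
    rw [bf_add_left, ← a _ (s4_e m hm), bf_O8, a _ (s4_e m hm), zmod2_add_self]
  exact (s4_fix _).2 ⟨k 1 (by simp), k 2 (by simp), k 4 (by simp), k 8 (by simp)⟩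

theorem enc4_mul {τ τ' : O8} (a : U4 τ) (b : U4 τ') : enc4 (τ * τ') = enc4 τ + enc4 τ' := by
  funext i
  have z : bf (vc (x4 i)) (vc (m4 i)) = 0 := by revert i; decide +kernel
  have e : τ' • vc (m4 i) = vc (m4 i) + (τ' • vc (m4 i) + vc (m4 i)) := eq_add_of rfl
  rw [Pi.add_apply, enc4, enc4, enc4, mul_smul, e, smul_add, a _ (b.sub _), ← e, bf_add_right, bf_add_right, z,
    add_zero]

theorem enc4_s4 : enc4 s4 = vc 17 := by
  funext i
  rw [enc4, s4_vc (by revert i; decide)]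
  revert i; decide +kernel

theorem enc4_one : enc4 1 = 0 := by
  funext i
  rw [enc4, one_smul]
  revert i; decide +kernel

theorem pf_one {τ : O8} (a : U4 τ) (h : Iso τ) : qf (enc4 τ) = 1 := by
  have sy : ∀ u v : V8, bf u (τ • v + v) = bf v (τ • u + u) := fun u v => by
    have := iso4 _ _ (a.sub u) (a.sub v)
    rw [bf_add_left, bf_add_right, bf_add_right, bf_O8] at this
    rw [bf_add_right, bf_add_right, bf_comm v u, bf_comm v]
    revert this
    generalize bf u v = x, bf (τ • u) v = y, bf u (τ • v) = z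
    revert x y z; decide
  have di : ∀ v : V8, bf v (τ • v + v) = 0 := fun v => by
    obtain ⟨p, q, r, s⟩ := (s4_fix _).1 (a.sub v)
    rw [← qf_N, eq_W _ p q r s]
    generalize bf (vc 16) _ = x, bf (vc 32) _ = y, bf (vc 64) _ = z, bf (vc 128) _ = w
    revert x y z w; decide +kernel
  have en : ∀ i, enc4 τ i = bf (vc (x4 i)) (τ • vc (m4 i) + vc (m4 i)) := fun i => by
    have z : bf (vc (x4 i)) (vc (m4 i)) = 0 := by revert i; decide +kernel
    rw [bf_add_right, z, add_zero, enc4]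
  have e12 : bf (vc 16) (τ • vc 32 + vc 32) = enc4 τ (.inl 0) := (en (.inl 0)).symm
  have e13 : bf (vc 16) (τ • vc 64 + vc 64) = enc4 τ (.inl 1) := (en (.inl 1)).symm
  have e14 : bf (vc 16) (τ • vc 128 + vc 128) = enc4 τ (.inl 2) := (en (.inl 2)).symm
  have e34 : bf (vc 64) (τ • vc 128 + vc 128) = enc4 τ (.inr 0) := (en (.inr 0)).symm
  have e24 : bf (vc 32) (τ • vc 128 + vc 128) = enc4 τ (.inr 1) := (en (.inr 1)).symm
  have e23 : bf (vc 32) (τ • vc 64 + vc 64) = enc4 τ (.inr 2) := (en (.inr 2)).symm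
  have e0 : enc4 τ (.inl 3) = 0 := by rw [enc4]; exact (congrArg (bf · _) vc_zero).trans (bf_zero_left _)
  have k : ∀ a b c d e f : ZMod 2, a * d + b * e + c * f = 1 ∨ ∃ x y z w : ZMod 2,
      (x = 1 ∨ y = 1 ∨ z = 1 ∨ w = 1) ∧ y * a + z * b + w * c = 0 ∧ x * a + z * f + w * e = 0 ∧
        x * b + y * f + w * d = 0 ∧ x * c + y * e + z * d = 0 := by decide +kernel
  rcases k (enc4 τ (.inl 0)) (enc4 τ (.inl 1)) (enc4 τ (.inl 2)) (enc4 τ (.inr 0)) (enc4 τ (.inr 1))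
    (enc4 τ (.inr 2)) with k | ⟨x, y, z, w, k0, k1, k2, k3, k4⟩
  · simp only [qf, quadFormPlus, Fin.sum_univ_four, e0, zero_mul, add_zero]
    exact k
  exfalso
  have hu : τ • (x • vc 16 + y • vc 32 + z • vc 64 + w • vc 128) = x • vc 16 + y • vc 32 + z • vc 64 + w • vc 128 := by
    obtain ⟨p, q, r, s⟩ := (s4_fix _).1 (a.sub (x • vc 16 + y • vc 32 + z • vc 64 + w • vc 128))
    rw [← add_eq_zero2, eq_W _ p q r s, sy (vc 16), sy (vc 32), sy (vc 64), sy (vc 128)]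
    simp only [bf_add_left, bf_smul_left, di, sy (vc 32) (vc 16), sy (vc 64) (vc 16), sy (vc 128) (vc 16),
      sy (vc 64) (vc 32), sy (vc 128) (vc 32), sy (vc 128) (vc 64), e12, e13, e14, e23, e24, e34, mul_zero,
      add_zero, zero_add, k1, k2, k3, k4, zero_smul]
  have t : ∀ m ∈ [1, 2, 4, 8], bf (x • vc 16 + y • vc 32 + z • vc 64 + w • vc 128) (vc m) = 0 :=
    fun m hm => h _ _ hu (a _ (s4_e m hm))
  revert t k0
  clear hu k1 k2 k3 k4
  revert x y z w; decide +kernel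

theorem exists_kappa : ∀ u : V8, s4 • u + u ≠ 0 → ∃ κ ∈ Om, κ * s4 = s4 * κ ∧
    κ • (s4 • u + u) ≠ s4 • u + u ∧ bf u (κ • (s4 • u + u)) = 0 := all_vc fun m hm h0 => by
  have c : ∀ m, m < 256 → rwm l4 m = m ∨ ∃ l ∈ [[34, 35, 98, 99, 17, 25, 49, 57], [17, 19, 145, 147, 34, 38, 50, 54]],
      rwm l (Nat.xor (rwm l4 m) m) ≠ Nat.xor (rwm l4 m) m ∧ bb m (rwm l (Nat.xor (rwm l4 m) m)) = 0 := by
    decide +kernel
  have c2 : ∀ l ∈ [[34, 35, 98, 99, 17, 25, 49, 57], [17, 19, 145, 147, 34, 38, 50, 54]],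
      band (okW l) (Nat.beq (Nat.mod (len l) 2) 0) = true ∧ eqW (l ++ l4) (l4 ++ l) = true := by decide +kernel
  rw [s4_vc hm] at h0 ⊢
  obtain ⟨l, hl, c3, c4⟩ := (c m hm).resolve_left fun e => h0 (by rw [e, vec2_add_self])
  obtain ⟨c5, c6⟩ := c2 l hl
  have hx := xor_lt (rw_vc ok4 hm).1 hm
  obtain ⟨c7, c8⟩ := rw_vc ((band_eq_true _ _).1 c5).1 hx
  refine ⟨rw l, rw_mem c5, by rw [s4, ← rw_append, ← rw_append, rw_eq c6], ?_, ?_⟩ <;> rw [← vc_xor, c8]
  · exact fun e => c3 (vc_inj c7 hx e)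
  · exact (bf_vc_zero hm c7).2 c4

theorem no15 {R : V8 → V8 → Prop} (hex : ∀ v, ∃ M, R v M)
    (hadd : ∀ v M w N, R v M → R w N → R (v + w) (M + N + bf v (s4 • w + w) • vc 17))
    (hq : ∀ v M, R v M → s4 • v ≠ v → qf M = 1) : False := by
  obtain ⟨A, a⟩ := hex (vc 16)
  obtain ⟨B, b⟩ := hex (vc 32)
  obtain ⟨C, c⟩ := hex (vc 64)
  obtain ⟨D, d⟩ := hex (vc 128)
  have ad : ∀ {m n : ℕ} {M N : V8}, R (vc m) M → R (vc n) N → m < 256 → n < 256 →
      ∀ (k : ℕ) (e : ZMod 2), Nat.xor m n = k → bf (vc m) (vc (rwm l4 n) + vc n) = e → R (vc k) (M + N + e • vc 17) :=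
    fun r s _ hn k e h1 h2 => by
      rw [← h1, ← h2, vc_xor, ← s4_vc hn]; exact hadd _ _ _ _ r s
  have q : ∀ {m : ℕ} {M : V8}, R (vc m) M → m < 256 → vc (rwm l4 m) ≠ vc m → qf M = 1 := fun r hm e =>
    hq _ _ r (by rwa [s4_vc hm])
  have r3 := ad a b (by norm_num) (by norm_num) 48 1 (by decide +kernel) (by decide +kernel)
  have r5 := ad a c (by norm_num) (by norm_num) 80 0 (by decide +kernel) (by decide +kernel)
  have r6 := ad b c (by norm_num) (by norm_num) 96 0 (by decide +kernel) (by decide +kernel)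
  have r7 := ad r3 c (by norm_num) (by norm_num) 112 0 (by decide +kernel) (by decide +kernel)
  have r9 := ad a d (by norm_num) (by norm_num) 144 0 (by decide +kernel) (by decide +kernel)
  have r10 := ad b d (by norm_num) (by norm_num) 160 0 (by decide +kernel) (by decide +kernel)
  have r11 := ad r3 d (by norm_num) (by norm_num) 176 0 (by decide +kernel) (by decide +kernel)
  have r12 := ad c d (by norm_num) (by norm_num) 192 1 (by decide +kernel) (by decide +kernel)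
  have r13 := ad r5 d (by norm_num) (by norm_num) 208 1 (by decide +kernel) (by decide +kernel)
  have r14 := ad r6 d (by norm_num) (by norm_num) 224 1 (by decide +kernel) (by decide +kernel)
  have r15 := ad r7 d (by norm_num) (by norm_num) 240 1 (by decide +kernel) (by decide +kernel)
  have q1 := q a (by norm_num) (by decide +kernel)
  have q2 := q b (by norm_num) (by decide +kernel)
  have q3 := q r3 (by norm_num) (by decide +kernel)
  have q4 := q c (by norm_num) (by decide +kernel)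
  have q5 := q r5 (by norm_num) (by decide +kernel)
  have q6 := q r6 (by norm_num) (by decide +kernel)
  have q7 := q r7 (by norm_num) (by decide +kernel)
  have q8 := q d (by norm_num) (by decide +kernel)
  have q9 := q r9 (by norm_num) (by decide +kernel)
  have q10 := q r10 (by norm_num) (by decide +kernel)
  have q11 := q r11 (by norm_num) (by decide +kernel)
  have q12 := q r12 (by norm_num) (by decide +kernel)
  have q13 := q r13 (by norm_num) (by decide +kernel)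
  have q14 := q r14 (by norm_num) (by decide +kernel)
  have q15 := q r15 (by norm_num) (by decide +kernel)
  have w : qf (vc 17) = 1 := by decide +kernel
  simp only [zero_smul, one_smul, add_zero, qf_add, bf_add_left, bf_add_right, bf_self, w, q1, q2, q4, q8,
    bf_comm (vc 17)] at q3 q5 q6 q7 q9 q10 q11 q12 q13 q14 q15
  revert q3 q5 q6 q7 q9 q10 q11 q12 q13 q14 q15
  generalize bf A B = x1, bf A C = x2, bf A D = x3, bf B C = x4, bf B D = x5, bf C D = x6, bf A (vc 17) = y1,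
    bf B (vc 17) = y2, bf C (vc 17) = y3, bf D (vc 17) = y4
  revert x1 x2 x3 x4 x5 x6 y1 y2 y3 y4
  decide +kernel

theorem eqns_Lin : True := by
  have := @l2.eq_1
  have := @l4.eq_1
  have := @s2.eq_1
  have := @s4.eq_1
  have := @Perp.eq_1
  have := @Iso.eq_1
  have := @xs.eq_1
  have := @ms.eq_1
  have := @enc2.eq_1
  have := @K2.eq_1
  have := @Tv.eq_1
  have := @apW.eq_1
  have := @Em.eq_1
  have := @x4.eq_1
  have := @m4.eq_1
  have := @enc4.eq_1
  have := @U4.eq_1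
  trivial

end H30.WC
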